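import Cfsg.Agent.H867.RC.Spor
import Cfsg.Agent.H272.RC.Cc

/-!
# Regular cycles (S3509): pairs `w, y` and a four-group of `C(w)` (helper272)

* `exists_good` : `a, b` commuting involutions of `C(w)`, `y ∈ C(w)` of odd prime order `p`; the normal closure of `y` in
  `C(w)` contains an involution, or an element of order `p` commuting with an involution of `C(w)`.
-/

set_option autoImplicit false
open Cfsg

namespace Cfsg.Agent.H272.RCly

open Subgroup
open scoped Pointwise

section Inv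

variable {G : Type*} [Group G]

/-- an involution without fixed points on a subgroup of odd order inverts it -/
theorem inverts_of_fix {D : Subgroup G} [Finite D] {s : G} (hs : s * s = 1) (hn : ∀ x ∈ D, s * x * s ∈ D)
    (hfix : ∀ x ∈ D, x * s = s * x → x = 1) {x : G} (hx : x ∈ D) : s * x * s = x⁻¹ := by
  have hsi : s⁻¹ = s := inv_eq_of_mul_eq_one_left hs
  let f : D → D := fun x => ⟨(x : G)⁻¹ * (s * x * s), mul_mem (inv_mem x.2) (hn x x.2)⟩
  have hinj : Function.Injective f := by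
    rintro ⟨x, hx⟩ ⟨y, hy⟩ h
    have h1 : x⁻¹ * (s * x * s) = y⁻¹ * (s * y * s) := congrArg Subtype.val h
    have h2 : (y * x⁻¹) * s = s * (y * x⁻¹) := by
      have h3 : y * x⁻¹ = (s * y * s) * (s * x * s)⁻¹ := by
        have : s * y * s = y * x⁻¹ * (s * x * s) := by
          calc s * y * s = y * (y⁻¹ * (s * y * s)) := by group
            _ = y * x⁻¹ * (s * x * s) := by rw [← h1]; group
        rw [this]; group
      have h4 : (s * y * s) * (s * x * s)⁻¹ = s * (y * x⁻¹) * s := by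
        rw [mul_inv_rev, mul_inv_rev, hsi]
        calc s * y * s * (s * (x⁻¹ * s)) = s * y * (s * s) * x⁻¹ * s := by group
          _ = s * (y * x⁻¹) * s := by rw [hs]; group
      rw [h4] at h3
      calc (y * x⁻¹) * s = s * (y * x⁻¹) * s * s := by rw [← h3]
        _ = s * (y * x⁻¹) * (s * s) := by group
        _ = s * (y * x⁻¹) := by rw [hs, mul_one]
    have h5 := hfix _ (mul_mem hy (inv_mem hx)) h2
    exact Subtype.ext (mul_inv_eq_one.1 h5).symm
  obtain ⟨⟨y, hy⟩, h⟩ := (Finite.injective_iff_surjective.1 hinj) ⟨x, hx⟩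
  have h1 : y⁻¹ * (s * y * s) = x := congrArg Subtype.val h
  rw [← h1]
  calc s * (y⁻¹ * (s * y * s)) * s = s * y⁻¹ * s * y * (s * s) := by group
    _ = s * y⁻¹ * s * y := by rw [hs, mul_one]
    _ = (y⁻¹ * (s * y * s))⁻¹ := by rw [mul_inv_rev, mul_inv_rev, mul_inv_rev, hsi, inv_inv]; group

/-- a four-group acting on a nontrivial subgroup of odd order -/
theorem fix_of_four {D : Subgroup G} [Finite D] {a b : G} (ha : a * a = 1) (hb : b * b = 1) (hab : a * b = b * a)
    (ha1 : a ≠ 1) (hb1 : b ≠ 1) (hne : a ≠ b) (haD : ∀ x ∈ D, a * x * a ∈ D) (hbD : ∀ x ∈ D, b * x * b ∈ D)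
    (hD : D ≠ ⊥) {P : G → Prop} (hPa : P a) (hPb : P b) (hPab : P (a * b)) :
    ∃ v d : G, P v ∧ v * v = 1 ∧ v ≠ 1 ∧ d ∈ D ∧ d ≠ 1 ∧ d * v = v * d := by
  by_cases h1 : ∃ d ∈ D, d * a = a * d ∧ d ≠ 1
  · obtain ⟨d, hd, h2, h3⟩ := h1
    exact ⟨a, d, hPa, ha, ha1, hd, h3, h2⟩
  by_cases h2 : ∃ d ∈ D, d * b = b * d ∧ d ≠ 1
  · obtain ⟨d, hd, h2, h3⟩ := h2
    exact ⟨b, d, hPb, hb, hb1, hd, h3, h2⟩
  push Not at h1 h2
  obtain ⟨⟨d, hd⟩, hd0⟩ := Subgroup.ne_bot_iff_exists_ne_one.1 hD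
  have hd1 : d ≠ 1 := fun h => hd0 (Subtype.ext h)
  have h3 := inverts_of_fix ha haD h1 hd
  have h4 := inverts_of_fix hb hbD h2 (inv_mem hd)
  refine ⟨a * b, d, hPab, ?_, ?_, hd, hd1, ?_⟩
  · calc a * b * (a * b) = a * (b * a) * b := by group
      _ = (a * a) * (b * b) := by rw [← hab]; group
      _ = 1 := by rw [ha, hb, one_mul]
  · intro h
    apply hne
    rw [mul_eq_one_iff_eq_inv] at h
    rw [h]
    exact inv_eq_of_mul_eq_one_left hb
  · have h5 : b * (a * d * a) * b = d := by rw [h3, h4, inv_inv]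
    have hbi : b⁻¹ = b := inv_eq_of_mul_eq_one_left hb
    have hai : a⁻¹ = a := inv_eq_of_mul_eq_one_left ha
    calc d * (a * b) = b * (a * d * a) * b * (a * b) := by rw [h5]
      _ = b * (a * d * a) * b * (b * a) := by rw [hab]
      _ = b * a * d * a * (b * b) * a := by group
      _ = b * a * d * (a * a) := by rw [hb]; group
      _ = a * b * d := by rw [ha, hab]; group

theorem four_sq {a b : G} (ha : a * a = 1) (hb : b * b = 1) (hab : a * b = b * a) :
    ∀ g ∈ closure ({a, b} : Set G), g * g = 1 := by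
  have h1 : closure ({a, b} : Set G) ≤ centralizer ({a, b} : Set G) := by
    rw [closure_le]
    rintro g (rfl | rfl)
    · refine mem_centralizer_iff.2 ?_
      rintro h (rfl | rfl)
      · rfl
      · exact hab.symm
    · refine mem_centralizer_iff.2 ?_
      rintro h (rfl | rfl)
      · exact hab
      · rfl
  have h2 : closure ({a, b} : Set G) ≤ centralizer ((closure ({a, b} : Set G) : Subgroup G) : Set G) := by
    rw [closure_le]
    intro g hg
    refine mem_centralizer_iff.2 fun h hh => ?_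
    exact ((mem_centralizer_iff.1 (h1 hh)) g hg).symm
  intro g hg
  refine closure_induction (p := fun g _ => g * g = 1) ?_ ?_ ?_ ?_ hg
  · rintro g (rfl | rfl)
    · exact ha
    · exact hb
  · exact one_mul 1
  · intro x y hx hy hx1 hy1
    have h3 : y * x = x * y := (mem_centralizer_iff.1 (h2 hx)) y hy
    calc x * y * (x * y) = x * (y * x) * y := by group
      _ = (x * x) * (y * y) := by rw [h3]; group
      _ = 1 := by rw [hx1, hy1, one_mul]
  · intro x _ hx
    rw [← mul_inv_rev, hx, inv_one]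

end Inv

/-- a 2-group normalises a Sylow `p`-subgroup of a normal subgroup of odd order -/
theorem exists_sylow {C : Type*} [Group C] [Finite C] (R : Subgroup C) [hR : R.Normal] (hodd : ¬ 2 ∣ Nat.card R) {p : ℕ}
    [Fact p.Prime] (V : Subgroup C) (hV : IsPGroup 2 V) :
    ∃ D : Sylow p R, ∀ v ∈ V, ∀ d : R, d ∈ D → (⟨v * d * v⁻¹, hR.conj_mem d d.2 v⟩ : R) ∈ D := by
  have : Fact (Nat.Prime 2) := ⟨Nat.prime_two⟩
  let φ : C →* MulAut R := MulAut.conjNormal
  have hV' : IsPGroup 2 (V.map φ) := hV.map φ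
  have hcard : ¬ 2 ∣ Nat.card (Sylow p R) := by
    obtain ⟨P⟩ : Nonempty (Sylow p R) := inferInstance
    exact fun h => hodd (h.trans (P.card_dvd_index.trans (P : Subgroup R).index_dvd_card))
  obtain ⟨D, hD⟩ := hV'.nonempty_fixed_point_of_prime_not_dvd_card (Sylow p R) hcard
  refine ⟨D, fun v hv d hd => ?_⟩
  have h1 : (⟨φ v, v, hv, rfl⟩ : V.map φ) • D = D := hD _
  have h2 : (φ v) • D = D := h1
  have h3 : (φ v) • d ∈ (φ v) • (D : Subgroup R) := Subgroup.smul_mem_pointwise_smul d _ _ hd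
  have h4 : (φ v) • (D : Subgroup R) = (((φ v) • D : Sylow p R) : Subgroup R) := rfl
  rw [h4, h2] at h3
  exact h3

theorem exists_good {G : Type*} [Group G] [Finite G] {w y : G} {p : ℕ} (hp : p.Prime) (hy : orderOf y = p)
    (hyw : y * w = w * y) {a b : G} (ha : a * a = 1) (hb : b * b = 1) (hab : a * b = b * a) (ha1 : a ≠ 1) (hb1 : b ≠ 1)
    (hne : a ≠ b) (haw : a * w = w * a) (hbw : b * w = w * b) :
    (∃ u ∈ Cc (fun c => c * w = w * c) y, u * u = 1 ∧ u ≠ 1) ∨
      ∃ v y₁, y₁ ∈ Cc (fun c => c * w = w * c) y ∧ orderOf y₁ = p ∧ v * v = 1 ∧ v ≠ 1 ∧ v * w = w * v ∧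
        y₁ * v = v * y₁ := by
  have hpF : Fact p.Prime := ⟨hp⟩
  have h2F : Fact (Nat.Prime 2) := ⟨Nat.prime_two⟩
  have hPm : ∀ a b : G, a * w = w * a → b * w = w * b → a * b * w = w * (a * b) := fun a b ha hb => by
    rw [mul_assoc, hb, ← mul_assoc, ha, mul_assoc]
  set A := Cc (fun c => c * w = w * c) y with hA
  have hyA : y ∈ A := by
    have := mem_cc (P := fun c => c * w = w * c) (w := y) (c := 1) (by rw [one_mul, mul_one])
    rwa [one_mul, inv_one, mul_one] at this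
  have hAC : A ≤ centralizer ({w} : Set G) := by
    rw [hA, Cc, closure_le]
    rintro _ ⟨c, hc, rfl⟩
    refine mem_centralizer_singleton_iff.2 ?_
    refine hPm _ _ (hPm _ _ hc hyw) ?_
    rw [inv_mul_eq_iff_eq_mul, ← mul_assoc, hc, mul_inv_cancel_right]
  set C := centralizer ({w} : Set G) with hC
  have hconj : ∀ c ∈ C, ∀ z ∈ A, c * z * c⁻¹ ∈ A := fun c hc z hz =>
    conj_cc (P := fun c => c * w = w * c) hPm (mem_centralizer_singleton_iff.1 hc) hz
  set R : Subgroup C := A.subgroupOf C with hR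
  have hRn : R.Normal := by
    constructor
    rintro z hz c
    rw [hR, mem_subgroupOf] at hz ⊢
    exact hconj c c.2 z hz
  by_cases h2 : 2 ∣ Nat.card R
  · left
    obtain ⟨u, hu⟩ := exists_prime_orderOf_dvd_card' 2 h2
    refine ⟨((u : C) : G), u.2, ?_, ?_⟩
    · have h3 : u * u = 1 := by rw [← pow_two, ← hu, pow_orderOf_eq_one]
      exact congrArg (fun u : R => ((u : C) : G)) h3
    · intro h
      have h3 : u = 1 := Subtype.ext (Subtype.ext h)
      rw [h3, orderOf_one] at hu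
      omega
  right
  let a' : C := ⟨a, mem_centralizer_singleton_iff.2 haw⟩
  let b' : C := ⟨b, mem_centralizer_singleton_iff.2 hbw⟩
  have hV : IsPGroup 2 (closure ({a', b'} : Set C)) := by
    rintro ⟨g, hg⟩
    refine ⟨1, Subtype.ext ?_⟩
    rw [pow_one, pow_two]
    exact four_sq (a := a') (b := b') (Subtype.ext ha) (Subtype.ext hb) (Subtype.ext hab) g hg
  obtain ⟨D, hD⟩ := exists_sylow (p := p) R h2 _ hV
  have hpR : p ∣ Nat.card R := by
    rw [← hy, ← orderOf_mk (G := G) y (hAC hyA)]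
    exact R.orderOf_dvd_natCard hyA
  have hDne : (D : Subgroup R) ≠ ⊥ := D.ne_bot_of_dvd_card hpR
  let D' : Subgroup G := ((D : Subgroup R).map R.subtype).map C.subtype
  have hD'ne : D' ≠ ⊥ := by
    intro h
    apply hDne
    rw [Subgroup.map_eq_bot_iff_of_injective _ C.subtype_injective,
      Subgroup.map_eq_bot_iff_of_injective _ R.subtype_injective] at h
    exact h
  have hmem : ∀ v ∈ closure ({a', b'} : Set C), ∀ x ∈ D', (v : G) * x * (v : G)⁻¹ ∈ D' := by
    rintro v hv _ ⟨_, ⟨d, hd, rfl⟩, rfl⟩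
    exact ⟨_, ⟨_, hD v hv d hd, rfl⟩, rfl⟩
  have hai : a⁻¹ = a := inv_eq_of_mul_eq_one_left ha
  have hbi : b⁻¹ = b := inv_eq_of_mul_eq_one_left hb
  obtain ⟨v, d, hv, hvv, hv1, hd, hd1, hdv⟩ := fix_of_four (D := D') ha hb hab ha1 hb1 hne
    (fun x hx => by have := hmem a' (subset_closure (by simp)) x hx; rwa [show ((a' : C) : G) = a from rfl, hai] at this)
    (fun x hx => by have := hmem b' (subset_closure (by simp)) x hx; rwa [show ((b' : C) : G) = b from rfl, hbi] at this)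
    hD'ne (P := fun v => v * w = w * v) haw hbw (hPm _ _ haw hbw)
  have hdA : d ∈ A := by
    obtain ⟨_, ⟨d', hd', rfl⟩, rfl⟩ := hd
    exact d'.2
  have hdp : ∃ k, orderOf d = p ^ k := by
    obtain ⟨_, ⟨d', hd', rfl⟩, rfl⟩ := hd
    obtain ⟨k, hk⟩ := (IsPGroup.iff_orderOf.1 D.2) ⟨d', hd'⟩
    refine ⟨k, ?_⟩
    rw [← hk]
    change orderOf ((d' : C) : G) = _
    rw [Subgroup.orderOf_coe, Subgroup.orderOf_coe]
    exact (Subgroup.orderOf_mk d' hd').symm
  obtain ⟨k, hk⟩ := hdp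
  have hk0 : k ≠ 0 := by
    rintro rfl
    rw [pow_zero] at hk
    exact hd1 (orderOf_eq_one_iff.1 hk)
  obtain ⟨m, rfl⟩ : ∃ m, k = m + 1 := ⟨k - 1, by omega⟩
  refine ⟨v, d ^ p ^ m, pow_mem hdA _, ?_, hvv, hv1, hv, ?_⟩
  · rw [orderOf_pow, hk]
    have h3 : (p ^ (m + 1)).gcd (p ^ m) = p ^ m := Nat.gcd_eq_right (pow_dvd_pow p (by omega))
    rw [h3, pow_succ, Nat.mul_div_cancel_left _ (pow_pos hp.pos m)]
  · exact ((show Commute d v from hdv).pow_left _).eq

end Cfsg.Agent.H272.RCly
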