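import Cfsg.Agent.H272.RC.J4T
import Cfsg.Agent.H854.Ore.J4Cent
import Cfsg.Agent.KFacts.J4.SheetJ4

/-!
# Regular cycles (S3509): the row of `J4` (helper272)

* `pair_inv` : no cover by an involution and a commuting element of odd prime order;
* `with_inv` : no cover by a family commuting with an involution `s`, `s` being the involution of the family;
* **`noCov_j4`**, **`rc_j4`**.
-/

set_option autoImplicit false
open Cfsg

namespace Cfsg.Agent.H272.RCj4

open Subgroup MulAction Cfsg.Agent.J4Type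
open Cfsg.Agent.H106.RC Cfsg.Agent.H867.RC Cfsg.Agent.H31.RC.Spor
open Cfsg.Agent.H854.JM Cfsg.Agent.H854.Ore

theorem ne_of_order {G : Type*} [Group G] {y : G} {p : ℕ} (hp : p.Prime) (hy : orderOf y = p) : y ≠ 1 := by
  rintro rfl
  rw [orderOf_one] at hy
  exact hp.one_lt.ne hy

section covers

variable {G : Type} [Group G] [Finite G] [IsSimpleGroup G] (C : J4Type.Compl G)
variable {Ω : Type} [MulAction G Ω] [Nonempty Ω] {N : Subgroup G}

include C in
theorem pair_inv (hE : Env G Ω N) {t y : G} (ht2 : t * t = 1) (ht1 : t ≠ 1) {p : ℕ} (hp : p.Prime)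
    (hp2 : p ≠ 2) (hy : orderOf y = p) (hyt : y * t = t * y) (hc : ∀ ω : Ω, t • ω = ω ∨ y • ω = ω) : False :=
  rulePair hE ht1 hc (inv_mem_cc C ht2 ht1 hp hp2 (by rw [← hy, pow_orderOf_eq_one]) (ne_of_order hp hy) hyt)

include C in
theorem with_inv (hE : Env G Ω N) {ι : Type} [Finite ι] {x : ι → G} {r : ι → ℕ} (hx : PF x r) (hc : Cov Ω x)
    {s : G} (hs2 : s * s = 1) (hs1 : s ≠ 1) (hcomm : ∀ i, x i * s = s * x i) (h2 : ∀ i, r i = 2 → x i = s) :
    False := by
  have hord : ∀ i, orderOf (x i) = r i := fun i => by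
    have := Fact.mk (hx.prime i)
    exact orderOf_eq_prime (hx.pow i) (hx.ne i)
  rcases inv_cases C hs2 hs1 with ⟨g, rfl⟩ | ⟨g, rfl⟩
  · exact ruleA (fun t ht => hE.exists_move ht) hx hc (Large.conj (FusionCent.large C.toCent) g) hcomm h2
  · -- at most one member of odd order
    have hone : ∀ i j, r i ≠ 2 → r j ≠ 2 → i = j := by
      intro i j hi hj
      by_contra hij
      have hne : r i ≠ r j := fun h => hij (hx.inj h)
      have ho : ∀ k, orderOf (g⁻¹ * x k * g) = r k := fun k => by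
        have h1 : (MulAut.conj g⁻¹) (x k) = g⁻¹ * x k * g := by
          rw [MulAut.conj_apply, inv_inv]
        rw [← h1, MulEquiv.orderOf_eq, hord]
      refine no_pair_tt C.toFrame (hx.prime i) (hx.prime j) hi hj hne (ho i) (ho j) ?_ (comm_conj (hcomm i))
        (comm_conj (hcomm j))
      calc g⁻¹ * x j * g * (g⁻¹ * x i * g) = g⁻¹ * (x j * x i) * g := by group
        _ = g⁻¹ * x i * g * (g⁻¹ * x j * g) := by rw [hx.comm j i]; group
    obtain ⟨ω0⟩ := (inferInstance : Nonempty Ω)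
    obtain ⟨i0, -⟩ := hc ω0
    obtain ⟨j0, hj0⟩ := hc.two hE hx.ne i0
    have h22 : ∀ i j, r i = 2 → r j = 2 → i = j := fun i j hi hj => hx.inj (hi.trans hj.symm)
    obtain ⟨i, j, hi, hj⟩ : ∃ i j, r i = 2 ∧ r j ≠ 2 := by
      by_cases h : r i0 = 2
      · exact ⟨i0, j0, h, fun h' => hj0 (h22 _ _ h' h)⟩
      · refine ⟨j0, i0, ?_, h⟩
        by_contra h'
        exact hj0 (hone _ _ h' h)
    have hxi := h2 i hi
    refine pair_inv C hE hs2 hs1 (hx.prime j) hj (hord j) (hcomm j) fun ω => ?_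
    obtain ⟨l, hl⟩ := hc ω
    by_cases h : r l = 2
    · rw [h2 l h] at hl
      exact Or.inl hl
    · rw [hone l j h hj] at hl
      exact Or.inr hl

end covers

/-- the group `Spor.J4` -/
local notation "𝒢" => Cfsg.Spor.J4

/-- commuting elements of different prime orders `≥ 5` have orders `5, 7` -/
theorem five_seven {x y : 𝒢} {p q : ℕ} (hp : p.Prime) (hq : q.Prime) (hp5 : 5 ≤ p) (hq5 : 5 ≤ q) (hpq : p ≠ q)
    (hx : orderOf x = p) (hy : orderOf y = q) (hyx : y * x = x * y) : p = 5 ∨ p = 7 := by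
  have F := lc
  have hfin : Finite 𝒢 := H858.FixJ4.facts.1
  have hcase : ∀ {x : 𝒢} {p : ℕ}, p.Prime → 5 ≤ p → orderOf x = p → p ∈ [5, 7, 11, 23, 29, 31, 37, 43] := by
    intro x p hp hp5 hx
    have hpn : p ∣ Cfsg.Agent.H866.J4Ord.nJ := by
      rw [← card_J, ← hx]
      exact orderOf_dvd_natCard _
    have hn : Cfsg.Agent.H866.J4Ord.nJ = 2 ^ 21 * 3 ^ 3 * 5 * 7 * 11 ^ 3 * 23 * 29 * 31 * 37 * 43 := by
      norm_num [Cfsg.Agent.H866.J4Ord.nJ]
    rw [hn] at hpn
    simp only [hp.dvd_mul] at hpn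
    have h1 : ∀ q n : ℕ, q.Prime → p ∣ q ^ n → p = q := fun q n hq hd =>
      (Nat.prime_dvd_prime_iff_eq hp hq).1 (hp.dvd_of_dvd_pow hd)
    have h0 : ∀ q : ℕ, q.Prime → p ∣ q → p = q := fun q hq hd => (Nat.prime_dvd_prime_iff_eq hp hq).1 hd
    simp only [List.mem_cons, List.not_mem_nil, or_false]
    rcases hpn with ((((((((h | h) | h) | h) | h) | h) | h) | h) | h) | h
    · have := h1 2 _ (by norm_num) h; omega
    · have := h1 3 _ (by norm_num) h; omega
    · have := h0 5 (by norm_num) h; omega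
    · have := h0 7 (by norm_num) h; omega
    · have := h1 11 _ (by norm_num) h; omega
    · have := h0 23 (by norm_num) h; omega
    · have := h0 29 (by norm_num) h; omega
    · have := h0 31 (by norm_num) h; omega
    · have := h0 37 (by norm_num) h; omega
    · have := h0 43 (by norm_num) h; omega
  have hdv : ∀ {x y : 𝒢} {p q : ℕ}, orderOf x = p → orderOf y = q → y * x = x * y →
      Nat.card (zpowers x) = p ∧ q ∣ Nat.card (centralizer ((zpowers x : Subgroup 𝒢) : Set 𝒢)) := by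
    intro x y p q hx hy hyx
    refine ⟨by rw [Nat.card_zpowers, hx], ?_⟩
    rw [cent_zpowers, ← hy]
    exact Subgroup.orderOf_dvd_natCard _ (mem_centralizer_singleton_iff.2 hyx)
  -- no large primes
  have hbig : ∀ {x y : 𝒢} {p q : ℕ}, p.Prime → q.Prime → p ≠ q → orderOf x = p → orderOf y = q → y * x = x * y →
      p ∉ [23, 29, 31, 37, 43] := by
    intro x y p q hp hq hpq hx hy hyx h
    obtain ⟨h1, h2⟩ := hdv hx hy hyx
    rw [F.cp p h _ h1] at h2
    exact hpq ((Nat.prime_dvd_prime_iff_eq hq hp).1 h2).symm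
  have h1 := hcase hp hp5 hx
  have h2 := hcase hq hq5 hy
  have h3 := hbig hp hq hpq hx hy hyx
  have h4 := hbig hq hp hpq.symm hy hx hyx.symm
  simp only [List.mem_cons, List.not_mem_nil, or_false] at h1 h2 h3 h4
  obtain ⟨h5, h6⟩ := hdv hy hx hyx.symm
  have hp' : p = 5 ∨ p = 7 ∨ p = 11 := by omega
  have hq' : q = 5 ∨ q = 7 ∨ q = 11 := by omega
  rcases hp' with rfl | rfl | rfl
  · exact Or.inl rfl
  · exact Or.inr rfl
  · exfalso
    rcases hq' with rfl | rfl | rfl
    · rw [F.c5 _ h5] at h6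
      norm_num at h6
    · rw [F.c7 _ h5] at h6
      norm_num at h6
    · exact hpq rfl

/-- an element of order `3` has an involution in the centre of its centraliser -/
theorem three_inv {x : 𝒢} (hx : orderOf x = 3) : ∃ s : 𝒢, s * s = 1 ∧ s ≠ 1 ∧ ∀ u : 𝒢, u * x = x * u → u * s = s * u := by
  have := simple_J
  have hfin : Finite 𝒢 := H858.FixJ4.facts.1
  have f3 : Fact (Nat.Prime 3) := ⟨by norm_num⟩
  obtain ⟨z, P, hP⟩ := janko
  have hP3 : Nat.card P = 3 := hP.2.2.2.2.2.1
  obtain ⟨y, hy⟩ := exists_prime_orderOf_dvd_card' (G := P) 3 (by rw [hP3])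
  have hyP : zpowers (y : 𝒢) = P := by
    refine Subgroup.eq_of_le_of_card_ge (zpowers_le.2 y.2) ?_
    rw [hP3, Nat.card_zpowers, Subgroup.orderOf_coe, hy]
  obtain ⟨-, -, -, -, hN⟩ := S5563.result noncomm_J z P hP
  obtain ⟨c, hc⟩ := isConj_iff.1 (S5564.result noncomm_J janko (y : 𝒢) x (by rw [Subgroup.orderOf_coe, hy]) hx)
  have hz2 : z * z = 1 := by
    have := pow_orderOf_eq_one z
    rwa [hP.1, pow_two] at this
  have hz1 : z ≠ 1 := ne_of_order Nat.prime_two hP.1
  have key : ∀ v : 𝒢, v * (y : 𝒢) = y * v → v * z = z * v := by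
    intro v hv
    have h1 : v ∈ centralizer (P : Set 𝒢) := by
      rw [← hyP, cent_zpowers]
      exact mem_centralizer_singleton_iff.2 hv
    exact mem_centralizer_singleton_iff.1 (hN (Subgroup.centralizer_le_normalizer _ h1))
  refine ⟨c * z * c⁻¹, ?_, ?_, ?_⟩
  · calc c * z * c⁻¹ * (c * z * c⁻¹) = c * (z * z) * c⁻¹ := by group
      _ = 1 := by rw [hz2]; group
  · intro h
    apply hz1
    calc z = c⁻¹ * (c * z * c⁻¹) * c := by group
      _ = 1 := by rw [h]; group
  · intro u hu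
    rw [← hc] at hu
    have h1 := key (c⁻¹ * u * c) (comm_conj hu)
    calc u * (c * z * c⁻¹) = c * (c⁻¹ * u * c * z) * c⁻¹ := by group
      _ = c * z * c⁻¹ * u := by rw [h1]; group

/-- **the row of `J4`** -/
theorem noCov_j4 : NoCov 𝒢 := by
  have hfin : Finite 𝒢 := H858.FixJ4.facts.1
  obtain ⟨-, hs, ⟨F⟩⟩ := KFacts.J4.Base.exists_full (K := 𝒢) ⟨MulEquiv.refl _⟩
  have := hs
  refine noCov_of_inner (fun α => KFacts.J4.SheetJ4.inner F α) ?_
  intro Ω _ _ _ hE ι _ x r hx hc _
  have hord : ∀ i, orderOf (x i) = r i := fun i => by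
    have := Fact.mk (hx.prime i)
    exact orderOf_eq_prime (hx.pow i) (hx.ne i)
  by_cases H2 : ∃ i, r i = 2
  · obtain ⟨i, hi⟩ := H2
    have hsq : x i * x i = 1 := by
      have := hx.pow i
      rwa [hi, pow_two] at this
    exact with_inv F.C hE hx hc hsq (hx.ne i) (fun j => hx.comm j i) fun j hj => by rw [hx.inj (hj.trans hi.symm)]
  have h2 : ∀ i, r i ≠ 2 := fun i h => H2 ⟨i, h⟩
  have hno : ∀ s : 𝒢, s * s = 1 → s ≠ 1 → (∀ i, x i * s = s * x i) → False := fun s h1 h3 h4 =>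
    with_inv F.C hE hx hc h1 h3 h4 fun i hi => absurd hi (h2 i)
  by_cases H3 : ∃ i, r i = 3
  · obtain ⟨i, hi⟩ := H3
    obtain ⟨s, hs2, hs1, hsc⟩ := three_inv ((hord i).trans hi)
    exact hno s hs2 hs1 fun j => hsc _ (hx.comm j i)
  have h5 : ∀ i, 5 ≤ r i := fun i => by
    have h1 := hx.prime i
    have h3 := h1.two_le
    by_contra h4
    have h6 : r i < 5 := by omega
    interval_cases hr : r i
    · exact h2 i hr
    · exact H3 ⟨i, hr⟩
    · exact absurd h1 (by norm_num)
  have h57 : ∀ i, r i = 5 ∨ r i = 7 := fun i => by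
    obtain ⟨j, hj⟩ := hc.two hE hx.ne i
    exact five_seven (hx.prime i) (hx.prime j) (h5 i) (h5 j) (fun h => hj (hx.inj h).symm) (hord i) (hord j)
      (hx.comm j i)
  obtain ⟨i, j, hi, hj⟩ : ∃ i j, r i = 5 ∧ r j = 7 := by
    obtain ⟨ω0⟩ := (inferInstance : Nonempty Ω)
    obtain ⟨i0, -⟩ := hc ω0
    obtain ⟨j0, hj0⟩ := hc.two hE hx.ne i0
    rcases h57 i0 with h | h
    · rcases h57 j0 with h' | h'
      · exact absurd (hx.inj (h'.trans h.symm)) hj0
      · exact ⟨i0, j0, h, h'⟩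
    · rcases h57 j0 with h' | h'
      · exact ⟨j0, i0, h', h⟩
      · exact absurd (hx.inj (h'.trans h.symm)) hj0
  have hcov : ∀ ω : Ω, x i • ω = ω ∨ x j • ω = ω := fun ω => by
    obtain ⟨l, hl⟩ := hc ω
    rcases h57 l with h | h
    · rw [hx.inj (h.trans hi.symm)] at hl
      exact Or.inl hl
    · rw [hx.inj (h.trans hj.symm)] at hl
      exact Or.inr hl
  have hcard : Nat.card (centralizer ({x i} : Set 𝒢)) = 6720 := by
    rw [← cent_zpowers]
    exact lc.c5 _ (by rw [Nat.card_zpowers, hord i, hi])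
  obtain ⟨t, ht, htx, htc⟩ := pair_even (x := x i) (y := x j) (hx.comm j i) (q := 7) 6 (by norm_num)
    ((hord j).trans hj) (by rw [hcard]; norm_num) (by rw [hcard]; norm_num) (by norm_num) (fun s hs hsi hsj => by
      have hs2 : s * s = 1 := by
        have := pow_orderOf_eq_one s
        rwa [hs, pow_two] at this
      refine hno s hs2 (ne_of_order Nat.prime_two hs) fun l => ?_
      rcases h57 l with h | h
      · rw [hx.inj (h.trans hi.symm)]
        exact hsi.symm
      · rw [hx.inj (h.trans hj.symm)]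
        exact hsj.symm) hcov
  have ht2 : t * t = 1 := by
    have := pow_orderOf_eq_one t
    rwa [ht, pow_two] at this
  exact pair_inv F.C hE ht2 (ne_of_order Nat.prime_two ht) (p := 5) (by norm_num) (by norm_num)
    ((hord i).trans hi) htx.symm fun ω => (htc ω).symm

/-- **regular cycles for `J4`** -/
theorem rc_j4 {S : Type} [Group S] (h : Spor.IsoJ4 S) : RC S := by
  have hfin : Finite 𝒢 := H858.FixJ4.facts.1
  obtain ⟨e⟩ := h
  exact RC.congr e.symm (rc_of_noCov simple_J noncomm_J noCov_j4)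

end Cfsg.Agent.H272.RCj4
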