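import Cfsg.Agent.H272.RC.Cc
import Cfsg.Agent.McLLyComp.SimpleMT
import Cfsg.Agent.CpAutLy.Row

/-!
# Regular cycles (S3509), groups with involution centraliser `2.A_11`: closures of conjugates (helper272)

* `t_mem_pair`   : `t` is in the normal closure of `y` in `C(t)`, `y` of odd order;
* `t_mem_triple` : `t` is in the closure of the conjugates of `w` under `C(t) ∩ C(y)`, `w` of order 3, `y` of prime
  order `p ≥ 5`, all commuting;
* `exists_four`  : an element of order 3 commuting with `t` commutes with a second involution of `C(t)`;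
-/

set_option autoImplicit false
open Cfsg

namespace Cfsg.Agent.H272.RCly

open Subgroup Equiv
open Cfsg.Agent.SporRec.TwoAn Cfsg.Agent.TypeM.Two Cfsg.Agent.TypeM.CoverTools Cfsg.Agent.McLLyComp.SimpleMT

/-! ### normal subgroups of the covers -/

theorem z_mem_five {n : ℕ} (hn : 5 ≤ n) {C : Type*} [Group C] (K : Cover (Fin n) C) (N : Subgroup C) (hN : N.Normal)
    {y : C} (hy : y ∈ N) (h1 : K.π y ≠ 1) : K.z ∈ N := by
  rcases normal_cases K hn N hN with h | h
  · exact absurd ((K.ker y).2 (h y hy)) h1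
  · obtain ⟨σ, hσ, -, hz⟩ := exists_sq_z K (by omega)
    obtain ⟨g, hg⟩ := K.exists_lift hσ
    have hgz := hz g hg
    have hz' := hz (g * K.z) (by rw [map_mul, hg, K.π_z, mul_one])
    rcases h g with h2 | h2
    · rw [← hgz]; exact mul_mem h2 h2
    · rw [← hz']; exact mul_mem h2 h2

theorem four_chk : ∀ σ : Perm (Fin 4), σ ^ 3 = 1 → σ ≠ 1 → ∃ e : Perm (Fin 4),
    σ * (swap (e 0) (e 1) * swap (e 2) (e 3) * σ * (swap (e 0) (e 1) * swap (e 2) (e 3))⁻¹)⁻¹ =
      swap (e 0) (e 2) * swap (e 1) (e 3) := by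
  decide +kernel

theorem z_mem_four {C : Type*} [Group C] (K : Cover (Fin 4) C) (N : Subgroup C) (hN : N.Normal)
    {y : C} (hy : y ∈ N) (h3 : y ^ 3 = 1) (h1 : K.π y ≠ 1) : K.z ∈ N := by
  obtain ⟨e, he⟩ := four_chk (K.π y) (by rw [← map_pow, h3, map_one]) h1
  have hne : ∀ {i j : Fin 4}, i ≠ j → e i ≠ e j := fun h h' => h (e.injective h')
  obtain ⟨g, hg⟩ := K.exists_lift (Cover.swap_mul_swap_mem (e 0) (e 1) (e 2) (e 3) (hne (i := 0) (j := 1) (by decide)) (hne (i := 2) (j := 3) (by decide)))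
  have hv : y * (g * y * g⁻¹)⁻¹ ∈ N := mul_mem hy (inv_mem (hN.conj_mem y hy g))
  have h4 := K.dbl (e 0) (e 2) (e 1) (e 3) (hne (by decide)) (hne (by decide)) (hne (by decide)) (hne (by decide))
    (hne (by decide)) (hne (by decide)) (y * (g * y * g⁻¹)⁻¹) (by
      rw [map_mul, map_inv, map_mul, map_mul, map_inv, hg]
      exact he)
  rw [← h4]
  exact mul_mem hv hv

theorem z_mem {α : Type*} [Fintype α] [DecidableEq α] {C : Type*} [Group C] (K : Cover α C)
    (hc : 5 ≤ Fintype.card α ∨ Fintype.card α = 4) (N : Subgroup C) (hN : N.Normal)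
    {y : C} (hy : y ∈ N) (h3 : y ^ 3 = 1) (h1 : K.π y ≠ 1) : K.z ∈ N := by
  rcases hc with hc | hc
  · refine z_mem_five hc (K.congr (Fintype.equivFin α)) N hN hy fun h => h1 ?_
    have h2 : (Fintype.equivFin α).permCongr (K.π y) = 1 := h
    refine Equiv.ext fun x => ?_
    have h4 := congrArg (fun f : Perm (Fin (Fintype.card α)) => f (Fintype.equivFin α x)) h2
    simpa using h4
  · refine z_mem_four (K.congr (Fintype.equivFinOfCardEq hc)) N hN hy h3 fun h => h1 ?_
    have h2 : (Fintype.equivFinOfCardEq hc).permCongr (K.π y) = 1 := h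
    refine Equiv.ext fun x => ?_
    have h4 := congrArg (fun f : Perm (Fin 4) => f (Fintype.equivFinOfCardEq hc x)) h2
    simpa using h4

/-! ### permutations -/

theorem fix_of_coprime {α : Type*} {σ : Perm α} {m n : ℕ} (hmn : m.Coprime n) {x : α} (hm : (σ ^ m) x = x)
    (hn : (σ ^ n) x = x) : σ x = x := by
  have h1 : Function.IsPeriodicPt σ m x := by
    show σ^[m] x = x
    rw [Perm.iterate_eq_pow]
    exact hm
  have h2 : Function.IsPeriodicPt σ n x := by
    show σ^[n] x = x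
    rw [Perm.iterate_eq_pow]
    exact hn
  have h3 := Nat.dvd_gcd h1.minimalPeriod_dvd h2.minimalPeriod_dvd
  rw [hmn.gcd_eq_one, Nat.dvd_one] at h3
  exact Function.minimalPeriod_eq_one_iff_isFixedPt.1 h3

theorem disj {σ τ : Perm (Fin 11)} (hc : σ * τ = τ * σ) {p : ℕ} (hp : p.Prime) (h5 : 5 ≤ p) (hσ : σ ^ p = 1)
    (hτ : τ ^ 3 = 1) (x : Fin 11) : σ x = x ∨ τ x = x := by
  have h3p : Nat.Coprime 3 p := (Nat.coprime_primes Nat.prime_three hp).2 (by omega)
  have hcc : Commute σ τ := hc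
  have key : ((σ * τ) ^ 3) x = x ∨ ((σ * τ) ^ p) x = x := by
    by_cases hx : (σ * τ) x = x
    · left
      have : Function.IsFixedPt (σ * τ) x := hx
      have h := this.iterate 3
      rwa [Function.IsFixedPt, Perm.iterate_eq_pow] at h
    have hcyc := Perm.isCycle_cycleOf (σ * τ) hx
    have ho := hcyc.orderOf
    have hle : orderOf ((σ * τ).cycleOf x) ≤ 11 := by
      rw [ho]
      exact (Finset.card_le_univ _).trans (by simp)
    have hd : orderOf ((σ * τ).cycleOf x) ∣ 3 * p := by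
      refine (Perm.orderOf_cycleOf_dvd_orderOf _ _).trans (orderOf_dvd_of_pow_eq_one ?_)
      rw [hcc.mul_pow, mul_comm 3 p, pow_mul σ, hσ, one_pow, mul_comm p 3, pow_mul τ, hτ, one_pow, mul_one]
    have h2 : orderOf ((σ * τ).cycleOf x) ∣ 3 ∨ orderOf ((σ * τ).cycleOf x) ∣ p := by
      by_cases h : p ∣ orderOf ((σ * τ).cycleOf x)
      · right
        have h3 : ¬ 3 ∣ orderOf ((σ * τ).cycleOf x) := by
          intro h4
          have h6 := Nat.le_of_dvd (orderOf_pos _) (h3p.mul_dvd_of_dvd_of_dvd h4 h)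
          omega
        exact (((Nat.Prime.coprime_iff_not_dvd Nat.prime_three).2 h3).symm).dvd_of_dvd_mul_left hd
      · left
        exact (((Nat.Prime.coprime_iff_not_dvd hp).2 h).symm).dvd_of_dvd_mul_right hd
    rcases h2 with h2 | h2
    · left
      rw [← Perm.cycleOf_pow_apply_self, orderOf_dvd_iff_pow_eq_one.1 h2]
      rfl
    · right
      rw [← Perm.cycleOf_pow_apply_self, orderOf_dvd_iff_pow_eq_one.1 h2]
      rfl
  rcases key with h | h
  · left
    rw [hcc.mul_pow, hτ, mul_one] at h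
    exact fix_of_coprime h3p h (by rw [hσ]; rfl)
  · right
    rw [hcc.mul_pow, hσ, one_mul] at h
    exact fix_of_coprime h3p.symm h (by rw [hτ]; rfl)

theorem card_supp {σ : Perm (Fin 11)} {p : ℕ} (hp : p.Prime) (hσ : σ ^ p = 1) (h1 : σ ≠ 1) :
    ∃ k, 0 < k ∧ σ.support.card = p * k := by
  have := Fact.mk hp
  have hct := Perm.cycleType_of_pow_prime_eq_one (σ := σ) hσ
  refine ⟨σ.cycleType.card, ?_, ?_⟩
  · rw [Nat.pos_iff_ne_zero]
    intro h
    exact h1 (Perm.card_cycleType_eq_zero.1 h)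
  · rw [← σ.sum_cycleType]
    conv_lhs => rw [hct]
    rw [Multiset.sum_replicate, smul_eq_mul, mul_comm]

/-- the number of fixed points -/
theorem card_fix {σ τ : Perm (Fin 11)} (hc : σ * τ = τ * σ) {p : ℕ} (hp : p.Prime) (h5 : 5 ≤ p) (hσ : σ ^ p = 1)
    (hσ1 : σ ≠ 1) (hτ : τ ^ 3 = 1) (hτ1 : τ ≠ 1) :
    5 ≤ Fintype.card {x // σ x = x} ∨ Fintype.card {x // σ x = x} = 4 := by
  obtain ⟨k, hk, h1⟩ := card_supp hp hσ hσ1
  obtain ⟨m, hm, h2⟩ := card_supp Nat.prime_three hτ hτ1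
  have h3 : Disjoint σ.support τ.support := by
    rw [Finset.disjoint_left]
    intro x hx hx'
    rw [Perm.mem_support] at hx hx'
    rcases disj hc hp h5 hσ hτ x with h | h
    · exact hx h
    · exact hx' h
  have h4 : σ.support.card + τ.support.card ≤ 11 := by
    rw [← Finset.card_union_of_disjoint h3]
    exact (Finset.card_le_univ _).trans (by simp)
  have h6 : Fintype.card {x // σ x = x} + σ.support.card = 11 := by
    have h7 : Fintype.card {x // σ x = x} = (Finset.univ.filter fun x => σ x = x).card := Fintype.card_subtype _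
    rw [h7, Perm.support, ← Finset.card_union_of_disjoint]
    · rw [Finset.filter_union_filter_not_eq]
      simp
    · exact Finset.disjoint_filter_filter_not _ _ _
  have hk1 : k = 1 := by
    by_contra hk2
    have h8 : 5 * 2 ≤ p * k := Nat.mul_le_mul h5 (by omega)
    omega
  subst hk1
  have hp8 : p ≤ 8 := by omega
  have h9 : p = 5 ∨ p = 7 := by
    interval_cases p
    · exact Or.inl rfl
    · exact absurd hp (by norm_num)
    · exact Or.inr rfl
    · exact absurd hp (by norm_num)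
  omega

section MTs

variable {G : Type*} [Group G]

theorem π_ne {C : Type*} [Group C] {α : Type*} [Fintype α] [DecidableEq α] (K : Cover α C) {y : C} {n : ℕ} (hn : Odd n)
    (hy : y ^ n = 1) (h1 : y ≠ 1) : K.π y ≠ 1 := Cfsg.Agent.CpAutLy.Cov.π_ne_one K hn hy h1

/-- `t` in the closure of the conjugates of `y` under `C(t)` -/
theorem t_mem_pair (L : MT 11 G) {y : G} {n : ℕ} (hn : Odd n) (hy : y ^ n = 1) (hy1 : y ≠ 1)
    (hyt : y * L.t = L.t * y) : L.t ∈ Cc (fun c => c * L.t = L.t * c) y := by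
  set A := Cc (fun c => c * L.t = L.t * c) y with hA
  set C := centralizer ({L.t} : Set G) with hC
  have hAn : (A.comap C.subtype).Normal := by
    constructor
    rintro a ha c
    rw [mem_comap] at ha ⊢
    rw [map_mul, map_mul, map_inv]
    refine conj_cc (P := fun c => c * L.t = L.t * c) (fun a b ha hb => ?_) (mem_centralizer_singleton_iff.1 c.2) ha
    rw [mul_assoc, hb, ← mul_assoc, ha, mul_assoc]
  have hyA : y ∈ A := by
    have := mem_cc (P := fun c => c * L.t = L.t * c) (w := y) (c := 1) (by rw [one_mul, mul_one])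
    rwa [one_mul, inv_one, mul_one] at this
  have h1 : (⟨y, mem_centralizer_singleton_iff.2 hyt⟩ : C) ∈ A.comap C.subtype := hyA
  have h2 := z_mem_five (by norm_num) L.K _ hAn h1 (π_ne L.K hn (Subtype.ext hy) fun h => hy1 (congrArg Subtype.val h))
  have h3 : (L.K.z : G) ∈ A := h2
  rwa [L.hz] at h3

/-- `t` in the closure of the conjugates of `w` under `C(t) ∩ C(y)` -/
theorem t_mem_triple (L : MT 11 G) {w y : G} {p : ℕ} (hp : p.Prime) (h5 : 5 ≤ p) (hw3 : w ^ 3 = 1) (hw1 : w ≠ 1)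
    (hyp : y ^ p = 1) (hy1 : y ≠ 1) (hwt : w * L.t = L.t * w) (hyt : y * L.t = L.t * y) (hwy : w * y = y * w) :
    L.t ∈ Cc (fun c => c * L.t = L.t * c ∧ c * y = y * c) w := by
  set A := Cc (fun c => c * L.t = L.t * c ∧ c * y = y * c) w with hA
  set C := centralizer ({L.t} : Set G) with hC
  set K := L.K with hK
  have hpo : Odd p := hp.odd_of_ne_two (by omega)
  let y' : C := ⟨y, mem_centralizer_singleton_iff.2 hyt⟩
  let w' : C := ⟨w, mem_centralizer_singleton_iff.2 hwt⟩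
  have hwy' : w' * y' = y' * w' := Subtype.ext hwy
  have hy'p : y' ^ p = 1 := Subtype.ext hyp
  have hw'3 : w' ^ 3 = 1 := Subtype.ext hw3
  have hσ1 : K.π y' ≠ 1 := π_ne K hpo hy'p fun h => hy1 (congrArg Subtype.val h)
  have hτ1 : K.π w' ≠ 1 := π_ne K (n := 3) (by decide) hw'3 fun h => hw1 (congrArg Subtype.val h)
  have hcom : K.π y' * K.π w' = K.π w' * K.π y' := by rw [← map_mul, ← hwy', map_mul]
  have hσp : K.π y' ^ p = 1 := by rw [← map_pow, hy'p, map_one]
  have hτ3 : K.π w' ^ 3 = 1 := by rw [← map_pow, hw'3, map_one]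
  let P : Fin 11 → Prop := fun x => K.π y' x = x
  have hcard : 5 ≤ Fintype.card (Subtype P) ∨ Fintype.card (Subtype P) = 4 :=
    card_fix hcom hp h5 hσp hσ1 hτ3 hτ1
  have hwS : w' ∈ K.sub P := by
    rw [Cover.mem_sub]
    intro x hx
    exact (disj hcom hp h5 hσp hτ3 x).resolve_left hx
  have hSy : ∀ s ∈ K.sub P, s * y' = y' * s := by
    intro s hs
    refine K.commute_of_disjoint ?_
    intro x
    by_cases hx : P x
    · exact Or.inr hx
    · exact Or.inl (hs x hx)
  let f : K.sub P →* G := C.subtype.comp (K.sub P).subtype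
  have hAn : (A.comap f).Normal := by
    constructor
    rintro a ha c
    rw [mem_comap] at ha ⊢
    rw [map_mul, map_mul, map_inv]
    refine conj_cc (P := fun c => c * L.t = L.t * c ∧ c * y = y * c) (fun a b ha hb => ⟨?_, ?_⟩)
      ⟨mem_centralizer_singleton_iff.1 c.1.2, ?_⟩ ha
    · rw [mul_assoc, hb.1, ← mul_assoc, ha.1, mul_assoc]
    · rw [mul_assoc, hb.2, ← mul_assoc, ha.2, mul_assoc]
    · exact congrArg Subtype.val (hSy c.1 c.2)
  have hwA : w ∈ A := by
    have := mem_cc (P := fun c => c * L.t = L.t * c ∧ c * y = y * c) (w := w) (c := 1)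
      ⟨by rw [one_mul, mul_one], by rw [one_mul, mul_one]⟩
    rwa [one_mul, inv_one, mul_one] at this
  have h1 : (⟨w', hwS⟩ : K.sub P) ∈ A.comap f := hwA
  have h2 := z_mem (K.restrict P) hcard _ hAn h1 (Subtype.ext hw'3)
    (π_ne (K.restrict P) (n := 3) (by decide) (Subtype.ext hw'3) fun h => hw1
      (congrArg (fun u : K.sub P => ((u : C) : G)) h))
  have h3 : ((K.z : C) : G) ∈ A := h2
  rwa [hK, L.hz] at h3

/-- standard elements of order three of `A_11` commute with a product of four transpositions -/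
theorem std_chk : (∃ ρ : Perm (Fin 11), ρ * (swap 0 1 * swap 1 2) = (swap 0 1 * swap 1 2) * ρ ∧ ρ * ρ = 1 ∧
      ρ.support.card = 8) ∧
    (∃ ρ : Perm (Fin 11), ρ * (swap 0 1 * swap 1 2 * (swap 3 4 * swap 4 5)) =
      (swap 0 1 * swap 1 2 * (swap 3 4 * swap 4 5)) * ρ ∧ ρ * ρ = 1 ∧ ρ.support.card = 8) ∧
    (∃ ρ : Perm (Fin 11), ρ * (swap 0 1 * swap 1 2 * (swap 3 4 * swap 4 5) * (swap 6 7 * swap 7 8)) =
      (swap 0 1 * swap 1 2 * (swap 3 4 * swap 4 5) * (swap 6 7 * swap 7 8)) * ρ ∧ ρ * ρ = 1 ∧ ρ.support.card = 8) :=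
  ⟨⟨swap 3 4 * swap 5 6 * swap 7 8 * swap 9 10, by decide +kernel⟩,
    ⟨swap 0 3 * swap 1 4 * swap 2 5 * swap 6 7, by decide +kernel⟩,
    ⟨swap 0 3 * swap 1 4 * swap 2 5 * swap 9 10, by decide +kernel⟩⟩

theorem exists_perm {τ : Perm (Fin 11)} (h : τ.cycleType = {3} ∨ τ.cycleType = {3, 3} ∨ τ.cycleType = {3, 3, 3}) :
    ∃ ρ : Perm (Fin 11), ρ * τ = τ * ρ ∧ ρ * ρ = 1 ∧ ρ.support.card = 8 := by
  have key : ∀ τ₀ : Perm (Fin 11), τ₀.cycleType = τ.cycleType →
      (∃ ρ : Perm (Fin 11), ρ * τ₀ = τ₀ * ρ ∧ ρ * ρ = 1 ∧ ρ.support.card = 8) →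
      ∃ ρ : Perm (Fin 11), ρ * τ = τ * ρ ∧ ρ * ρ = 1 ∧ ρ.support.card = 8 := by
    rintro τ₀ h0 ⟨ρ, h1, h2, h3⟩
    obtain ⟨g, hg⟩ := isConj_iff.1 (Perm.isConj_iff_cycleType_eq.2 h0)
    refine ⟨g * ρ * g⁻¹, ?_, ?_, ?_⟩
    · rw [← hg]
      calc g * ρ * g⁻¹ * (g * τ₀ * g⁻¹) = g * (ρ * τ₀) * g⁻¹ := by group
        _ = g * τ₀ * g⁻¹ * (g * ρ * g⁻¹) := by rw [h1]; group
    · calc g * ρ * g⁻¹ * (g * ρ * g⁻¹) = g * (ρ * ρ) * g⁻¹ := by group
        _ = 1 := by rw [h2]; group
    · rw [← Perm.sum_cycleType, Perm.cycleType_conj, Perm.sum_cycleType, h3]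
  rcases h with h | h | h
  · exact key _ (by rw [h]; decide +kernel) std_chk.1
  · exact key _ (by rw [h]; decide +kernel) std_chk.2.1
  · exact key _ (by rw [h]; decide +kernel) std_chk.2.2

/-- a second involution -/
theorem exists_four (L : MT 11 G) {w : G} (hw3 : w ^ 3 = 1) (hw1 : w ≠ 1) (hwt : w * L.t = L.t * w) :
    ∃ s : G, s * s = 1 ∧ s ≠ 1 ∧ s ≠ L.t ∧ s * L.t = L.t * s ∧ s * w = w * s := by
  let w' : centralizer ({L.t} : Set G) := ⟨w, mem_centralizer_singleton_iff.2 hwt⟩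
  have hw'3 : w' ^ 3 = 1 := Subtype.ext hw3
  obtain ⟨ρ, h1, h2, h3⟩ := exists_perm (Cfsg.Agent.CpAutLy.Cov.three_cases L.K hw'3
    fun h => hw1 (congrArg Subtype.val h))
  have hev : ρ ∈ alternatingGroup (Fin 11) := by
    have : Fact (Nat.Prime 2) := ⟨Nat.prime_two⟩
    have h4 := Perm.cycleType_of_pow_prime_eq_one (σ := ρ) (p := 2) (by rw [pow_two, h2])
    have h6 := ρ.sum_cycleType
    rw [h3] at h6
    rw [h4, Multiset.sum_replicate, smul_eq_mul] at h6
    have h7 : ρ.cycleType.card = 4 := by omega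
    rw [Perm.mem_alternatingGroup, Perm.sign_of_cycleType, h4, h7]
    decide
  obtain ⟨s, hs⟩ := L.K.exists_lift hev
  have hss : s * s = 1 := L.K.sq_eq_one_iff.2 ⟨by rw [hs, h2], by rw [hs, h3]⟩
  have hsw : w' * s = s * w' := L.K.commute_of_odd (n := 3) (by decide) hw'3 (by rw [hs, h1])
  have hρ : ρ ≠ 1 := by
    rintro rfl
    simp at h3
  refine ⟨s, congrArg Subtype.val hss, fun h => ?_, fun h => ?_, mem_centralizer_singleton_iff.1 s.2,
    (congrArg Subtype.val hsw).symm⟩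
  · apply hρ
    rw [← hs, show s = 1 from Subtype.ext h, map_one]
  · apply hρ
    rw [← hs, show s = L.K.z from Subtype.ext (h.trans L.hz.symm), L.K.π_z]

end MTs

end Cfsg.Agent.H272.RCly
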